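import Cfsg.Agent.S2504

/-! Arithmetic for maximal abelian subgroups of alternating groups. -/

set_option autoImplicit false

namespace Cfsg.Agent.Lib.MaxAbelianAlt

open Cfsg.Agent.S2505 (bd bd_add bd_formulas)
open Cfsg.Agent.S2504 (bAlt bAlt_add)

/-- The largest order of an abelian subgroup of the alternating group (`n = 4` or `n ≥ 6`). -/
def Mx (n : ℕ) : ℕ := if n % 3 = 2 then bAlt n else bd n

theorem Mx_add (N : ℕ) (hN : N = 4 ∨ 6 ≤ N) : Mx (N + 3) = 3 * Mx N := by
  unfold Mx
  rw [Nat.add_mod_right]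
  split_ifs with h
  · exact bAlt_add N (by omega)
  · exact bd_add N (by omega)

theorem mul_bd_lt : ∀ N a m : ℕ, a + m = N → (N = 4 ∨ 6 ≤ N) → 1 ≤ a → a ≠ 2 → a ≠ 3 → a ≠ 4 →
    a * bd m < Mx N := by
  intro N
  induction N using Nat.strong_induction_on with
  | _ N ih =>
  intro a m hN hN' ha ha2 ha3 ha4
  by_cases hN12 : 12 ≤ N
  · by_cases hm : 5 ≤ m
    · obtain ⟨c, rfl⟩ : ∃ c, m = c + 3 := ⟨m - 3, by omega⟩
      have h1 := ih (a + c) (by omega) a c rfl (by omega) ha ha2 ha3 ha4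
      rw [← hN, show a + (c + 3) = (a + c) + 3 by omega, bd_add _ (by omega), Mx_add _ (by omega)]
      nlinarith
    · obtain ⟨c, rfl⟩ : ∃ c, a = c + 3 := ⟨a - 3, by omega⟩
      have h1 := ih (c + m) (by omega) c m rfl (by omega) (by omega) (by omega) (by omega) (by omega)
      rw [← hN, show c + 3 + m = (c + m) + 3 by omega, Mx_add _ (by omega)]
      nlinarith [Nat.mul_le_mul_right (bd m) (show c + 3 ≤ 3 * c by omega)]
  · obtain rfl : m = N - a := by omega
    have : a ≤ 11 := by omega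
    have : N ≤ 11 := by omega
    interval_cases N <;> interval_cases a <;> first | omega | decide

theorem two_case : ∀ N : ℕ, (N = 4 ∨ 6 ≤ N) → bd (N - 2) < Mx N := by
  intro N
  induction N using Nat.strong_induction_on with
  | _ N ih =>
  intro hN
  by_cases h : 9 ≤ N
  · obtain ⟨c, rfl⟩ : ∃ c, N = c + 3 := ⟨N - 3, by omega⟩
    have h1 := ih c (by omega) (by omega)
    rw [Mx_add c (by omega), show c + 3 - 2 = (c - 2) + 3 by omega, bd_add _ (by omega)]
    omega
  · have : N ≤ 8 := by omega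
    interval_cases N <;> first | omega | decide

theorem four_case : ∀ N : ℕ, (N = 4 ∨ 6 ≤ N) → 3 * bd (N - 4) < Mx N := by
  intro N
  induction N using Nat.strong_induction_on with
  | _ N ih =>
  intro hN
  by_cases h : 9 ≤ N
  · obtain ⟨c, rfl⟩ : ∃ c, N = c + 3 := ⟨N - 3, by omega⟩
    have h1 := ih c (by omega) (by omega)
    rw [Mx_add c (by omega), show c + 3 - 4 = (c - 4) + 3 by omega, bd_add _ (by omega)]
    omega
  · have : N ≤ 8 := by omega
    interval_cases N <;> first | omega | decide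

theorem triple_case : ∀ m : ℕ, 64 * bd m < Mx (m + 12) := by
  intro m
  induction m using Nat.strong_induction_on with
  | _ m ih =>
  by_cases h : 5 ≤ m
  · obtain ⟨c, rfl⟩ : ∃ c, m = c + 3 := ⟨m - 3, by omega⟩
    have h1 := ih c (by omega)
    rw [bd_add _ (by omega), show c + 3 + 12 = c + 12 + 3 by omega, Mx_add _ (by omega)]
    omega
  · interval_cases m <;> decide

theorem exists_card_Mx (n : ℕ) (hn : n = 4 ∨ 6 ≤ n) : S2504.EvenAbelian n (Mx n) := by
  unfold Mx
  split_ifs with h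
  · obtain ⟨j, rfl⟩ : ∃ j, n = 4 + 4 + 3 * j := ⟨(n - 8) / 3, by omega⟩
    have := (S2504.evenAbelian_four.add S2504.evenAbelian_four).threes j
    rwa [bAlt, show (4 + 4 + 3 * j - 8) / 3 = j by omega]
  · obtain ⟨j, rfl | rfl⟩ : ∃ j, n = 3 + 3 * j ∨ n = 4 + 3 * j :=
      ⟨(n - 3) / 3, by omega⟩
    · have := S2504.evenAbelian_three.threes j
      rw [show 3 + 3 * j = 3 * (j + 1) by ring, (bd_formulas j).1, pow_succ']
      rwa [show 3 + 3 * j = 3 * (j + 1) by ring] at this
    · have := S2504.evenAbelian_four.threes j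
      rw [show 4 + 3 * j = 3 * (j + 1) + 1 by ring, (bd_formulas j).2.1]
      rwa [show 4 + 3 * j = 3 * (j + 1) + 1 by ring] at this

end Cfsg.Agent.Lib.MaxAbelianAlt
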