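import Cfsg.Agent.Lib.MaxAbelianAlt.Arith

/-! Abelian subgroups of maximal order of alternating groups are conjugate. -/

set_option autoImplicit false
set_option linter.unusedSectionVars false

namespace Cfsg.Agent.Lib.MaxAbelianAlt

open Equiv
open Cfsg.Agent.S2505 (bd)
open Cfsg.Agent.S2504 (orb mem_orb mem_orb_self orb_invariant orb_eq_of_mem determined card_le_mul_bd)

variable {α : Type*} [Fintype α] [DecidableEq α]

theorem fin3_commute : ∀ π ρ : Perm (Fin 3), (∀ x y, π x = x → π y = y) →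
    (∀ x y, ρ x = x → ρ y = y) → π * ρ = ρ * π := by
  decide +kernel

theorem fin4_commute : ∀ π : Perm (Fin 4), (∀ x y, π x = x → π y = y) → π * π = 1 →
    ∀ ρ : Perm (Fin 4), (∀ x y, ρ x = x → ρ y = y) → ρ * ρ = 1 → π * ρ = ρ * π := by
  decide +kernel

theorem fin4_sq : ∀ π : Perm (Fin 4), (∀ x y, π x = x → π y = y) → Perm.sign π = 1 → π * π = 1 := by
  decide +kernel

/-- A permutation preserving `O` with all or no fixed points there, read on `Fin k`. -/
theorem exists_model {O : Finset α} {k : ℕ} (hk : O.card = k) :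
    ∃ e : Fin k ≃ {x : α // x ∈ O}, ∀ σ : Perm α, (∀ x, σ x ∈ O ↔ x ∈ O) →
      ∃ π : Perm (Fin k), (∀ i, σ (e i : α) = (e (π i) : α)) ∧
        ((∀ x ∉ O, σ x = x) → Perm.sign π = Perm.sign σ) := by
  refine ⟨(Finset.equivFinOfCardEq hk).symm, fun σ hσ =>
    ⟨(Finset.equivFinOfCardEq hk).permCongr (σ.subtypePerm hσ), fun i => ?_, fun hfix => ?_⟩⟩
  · rw [Equiv.permCongr_apply, Equiv.symm_apply_apply]; rfl
  · refine (Perm.sign_permCongr _ _).trans ?_
    convert Perm.sign_subtypePerm σ hσ fun x hx => by_contra fun h => hx (hfix x h) using 1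
    congr 1
    all_goals congr 1 <;> exact Subsingleton.elim _ _

theorem local_commute {O : Finset α} {σ τ : Perm α} (hσ : ∀ x, σ x ∈ O ↔ x ∈ O)
    (hτ : ∀ x, τ x ∈ O ↔ x ∈ O) (hσ' : ∀ x ∈ O, σ x = x → ∀ y ∈ O, σ y = y)
    (hτ' : ∀ x ∈ O, τ x = x → ∀ y ∈ O, τ y = y)
    (h : O.card = 3 ∨ (O.card = 4 ∧ (∀ x ∈ O, σ (σ x) = x) ∧ ∀ x ∈ O, τ (τ x) = x)) {x : α}
    (hx : x ∈ O) : σ (τ x) = τ (σ x) := by
  have main : ∀ k, O.card = k → (∀ π ρ : Perm (Fin k), (∀ i j, π i = i → π j = j) →
      (∀ i j, ρ i = i → ρ j = j) → ((∀ x ∈ O, σ (σ x) = x) → π * π = 1) →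
      ((∀ x ∈ O, τ (τ x) = x) → ρ * ρ = 1) → π * ρ = ρ * π) → σ (τ x) = τ (σ x) := by
    intro k hk hall
    obtain ⟨e, he⟩ := exists_model (O := O) hk
    obtain ⟨π, hπ, -⟩ := he σ hσ
    obtain ⟨ρ, hρ, -⟩ := he τ hτ
    have semi : ∀ (g : Perm α) (q : Perm (Fin k)), (∀ i, g (e i : α) = (e (q i) : α)) →
        (∀ x ∈ O, g x = x → ∀ y ∈ O, g y = y) → ∀ i j, q i = i → q j = j := by
      intro g q hq hg i j hi
      apply e.injective
      apply Subtype.ext
      rw [← hq]
      exact hg _ (e i).2 (by rw [hq, hi]) _ (e j).2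
    have sq : ∀ (g : Perm α) (q : Perm (Fin k)), (∀ i, g (e i : α) = (e (q i) : α)) →
        (∀ x ∈ O, g (g x) = x) → q * q = 1 := by
      intro g q hq hg
      refine Equiv.ext fun i => e.injective (Subtype.ext ?_)
      rw [Perm.mul_apply, ← hq, ← hq, Perm.one_apply]
      exact hg _ (e i).2
    have key := hall π ρ (semi σ π hπ hσ') (semi τ ρ hρ hτ') (sq σ π hπ) (sq τ ρ hρ)
    obtain ⟨i, hi⟩ := e.surjective ⟨x, hx⟩
    have hxi : x = (e i : α) := by rw [hi]
    rw [hxi, hρ, hπ, hπ, hρ, ← Perm.mul_apply, key, Perm.mul_apply]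
  rcases h with h | ⟨h, q1, q2⟩
  · exact main 3 h fun π ρ h1 h2 _ _ => fin3_commute π ρ h1 h2
  · exact main 4 h fun π ρ h1 h2 h3 h4 => fin4_commute π h1 (h3 q1) ρ h2 (h4 q2)

/-- The shape of an abelian subgroup of maximal order. -/
structure Shape (A : Subgroup (Perm α)) : Prop where
  size : ∀ x, (orb A x).card = 3 ∨ (orb A x).card = 4
  invol : ∀ σ ∈ A, ∀ x, (orb A x).card = 4 → σ (σ x) = x
  fours : ((Finset.univ.image (orb A)).filter fun o => o.card = 4).card ≤ 2

theorem fiber_eq (A : Subgroup (Perm α)) {o : Finset α} (ho : o ∈ Finset.univ.image (orb A)) :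
    (Finset.univ.filter fun x => orb A x = o) = o := by
  obtain ⟨a, -, rfl⟩ := Finset.mem_image.1 ho
  ext x
  simp only [Finset.mem_filter, Finset.mem_univ, true_and]
  exact ⟨fun e => e ▸ mem_orb_self A x, orb_eq_of_mem⟩

theorem Shape.counts {A : Subgroup (Perm α)} (h : Shape A) :
    ((Finset.univ.image (orb A)).filter fun o => o.card = 4).card = Fintype.card α % 3 ∧
    3 * ((Finset.univ.image (orb A)).filter fun o => ¬ o.card = 4).card +
      4 * ((Finset.univ.image (orb A)).filter fun o => o.card = 4).card = Fintype.card α := by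
  set I := Finset.univ.image (orb A)
  have hsum := Finset.card_eq_sum_card_fiberwise (f := orb A) (s := (Finset.univ : Finset α))
      (t := I) (fun x _ => Finset.mem_image_of_mem _ (Finset.mem_univ x))
  rw [Finset.sum_congr rfl fun o ho => by rw [fiber_eq A ho], Finset.card_univ,
    ← Finset.sum_filter_add_sum_filter_not I (fun o => o.card = 4),
    Finset.sum_congr rfl (g := fun _ => 4) fun o ho => (Finset.mem_filter.1 ho).2,
    Finset.sum_const, smul_eq_mul,
    Finset.sum_congr rfl (g := fun _ => 3) (s₁ := I.filter fun o => ¬ o.card = 4) fun o ho => by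
      obtain ⟨h1, h2⟩ := Finset.mem_filter.1 ho
      obtain ⟨a, -, rfl⟩ := Finset.mem_image.1 h1
      exact (h.size a).resolve_right h2,
    Finset.sum_const, smul_eq_mul] at hsum
  have := h.fours
  simp only [show I = Finset.univ.image (orb A) from rfl] at hsum ⊢
  omega

variable {n : ℕ}

theorem shape_of_max (hn : n = 4 ∨ 6 ≤ n) {A : Subgroup (Perm (Fin n))} (hA : IsMulCommutative A)
    (hev : ∀ σ ∈ A, Perm.sign σ = 1) (hmax : Mx n ≤ Nat.card A) : Shape A := by
  classical
  have hker : ∀ a, Nat.card {σ : A // ∀ x ∉ orb A a, (σ : Perm (Fin n)) x = x} ≤ (orb A a).card := by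
    intro a
    rw [← Fintype.card_coe (orb A a), ← Nat.card_eq_fintype_card]
    refine Nat.card_le_card_of_injective
      (fun σ => (⟨((σ.1 : A) : Perm (Fin n)) a, mem_orb.2 ⟨_, σ.1.2, rfl⟩⟩ : orb A a)) fun σ τ h => ?_
    refine Subtype.ext (Subtype.ext (Equiv.ext fun x => ?_))
    by_cases hx : x ∈ orb A a
    · exact determined hA _ _ (congrArg Subtype.val h) hx
    · rw [σ.2 x hx, τ.2 x hx]
  have bound : ∀ a c, Nat.card {σ : A // ∀ x ∉ orb A a, (σ : Perm (Fin n)) x = x} ≤ c →
      Mx n ≤ c * bd (n - (orb A a).card) := fun a c hc => by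
    have := card_le_mul_bd A hA (orb A a) (fun σ hσ => orb_invariant hσ) hc
    rw [Fintype.card_fin] at this
    exact hmax.trans this
  have hsize : ∀ a, (orb A a).card = 3 ∨ (orb A a).card = 4 := by
    intro a
    by_contra hcon
    rw [not_or] at hcon
    have hpos : 0 < (orb A a).card := Finset.card_pos.2 ⟨a, mem_orb_self A a⟩
    have hle : (orb A a).card ≤ n := by simpa using Finset.card_le_univ (orb A a)
    by_cases h2 : (orb A a).card = 2
    · -- only the identity is supported on an orbit of length two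
      have h1 : Nat.card {σ : A // ∀ x ∉ orb A a, (σ : Perm (Fin n)) x = x} ≤ 1 := by
        rw [Finite.card_le_one_iff_subsingleton]
        have hone : ∀ σ : {σ : A // ∀ x ∉ orb A a, (σ : Perm (Fin n)) x = x},
            (σ.1 : Perm (Fin n)) = 1 := by
          intro σ
          obtain ⟨e, he⟩ := exists_model (O := orb A a) h2
          obtain ⟨π, hπ, hs⟩ := he σ.1 (orb_invariant σ.1.2)
          have h2' : ∀ π : Perm (Fin 2), Perm.sign π = 1 → π = 1 := by decide
          have hπ1 : π = 1 := h2' π (by rw [hs σ.2, hev _ σ.1.2])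
          refine Equiv.ext fun x => ?_
          by_cases hx : x ∈ orb A a
          · obtain ⟨i, hi⟩ := e.surjective ⟨x, hx⟩
            have hxi : x = (e i : Fin n) := by rw [hi]
            rw [hxi, hπ, hπ1]; rfl
          · exact σ.2 x hx
        exact ⟨fun σ τ => Subtype.ext (Subtype.ext ((hone σ).trans (hone τ).symm))⟩
      have := bound a 1 h1
      rw [one_mul, h2] at this
      exact absurd this (not_le.2 (two_case n hn))
    · exact absurd (bound a _ (hker a))
        (not_le.2 (mul_bd_lt n _ _ (Nat.add_sub_cancel' hle) hn hpos h2 hcon.1 hcon.2))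
  refine ⟨hsize, fun σ hσ a ha => ?_, ?_⟩
  · have h4 : 4 ≤ Nat.card {σ : A // ∀ x ∉ orb A a, (σ : Perm (Fin n)) x = x} := by
      by_contra hc
      have := bound a 3 (by omega)
      rw [ha] at this
      exact absurd this (not_le.2 (four_case n hn))
    let f : {σ : A // ∀ x ∉ orb A a, (σ : Perm (Fin n)) x = x} → orb A a :=
      fun σ => ⟨((σ.1 : A) : Perm (Fin n)) a, mem_orb.2 ⟨_, σ.1.2, rfl⟩⟩
    have hf : Function.Injective f := fun σ τ h => by
      refine Subtype.ext (Subtype.ext (Equiv.ext fun x => ?_))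
      by_cases hx : x ∈ orb A a
      · exact determined hA _ _ (congrArg Subtype.val h) hx
      · rw [σ.2 x hx, τ.2 x hx]
    obtain ⟨κ, hκ⟩ := ((Nat.bijective_iff_injective_and_card f).2 ⟨hf, le_antisymm
      (by rw [Nat.card_eq_fintype_card (α := orb A a), Fintype.card_coe]; exact hker a)
      (by rw [Nat.card_eq_fintype_card (α := orb A a), Fintype.card_coe, ha]; exact h4)⟩).surjective
      ⟨σ a, mem_orb.2 ⟨σ, hσ, rfl⟩⟩
    have hdet : ∀ x ∈ orb A a, (κ.1 : Perm (Fin n)) x = σ x := fun x hx =>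
      determined hA κ.1 ⟨σ, hσ⟩ (congrArg Subtype.val hκ) hx
    obtain ⟨e, he⟩ := exists_model (O := orb A a) ha
    obtain ⟨π, hπ, hs⟩ := he κ.1 (orb_invariant κ.1.2)
    have hπ2 : π * π = 1 := by
      refine fin4_sq π (fun i j hi => ?_) (by rw [hs κ.2, hev _ κ.1.2])
      apply e.injective
      apply Subtype.ext
      rw [← hπ]
      have hfix := determined hA κ.1 1 (a := (e i : Fin n)) (by rw [hπ, hi]; rfl) (x := (e j : Fin n))
        (by rw [orb_eq_of_mem (e i).2]; exact (e j).2)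
      exact hfix
    have key : ∀ x ∈ orb A a, (κ.1 : Perm (Fin n)) ((κ.1 : Perm (Fin n)) x) = x := by
      intro x hx
      obtain ⟨i, hi⟩ := e.surjective ⟨x, hx⟩
      have hxi : x = (e i : Fin n) := by rw [hi]
      rw [hxi, hπ, hπ, ← Perm.mul_apply, hπ2]
      rfl
    rw [← hdet a (mem_orb_self A a), ← hdet _ ((orb_invariant κ.1.2 a).2 (mem_orb_self A a))]
    exact key a (mem_orb_self A a)
  · by_contra hc
    rw [not_le] at hc
    obtain ⟨o1, o2, o3, m1, m2, m3, n12, n13, n23⟩ := Finset.two_lt_card_iff.1 hc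
    simp only [Finset.mem_filter, Finset.mem_image, Finset.mem_univ, true_and] at m1 m2 m3
    obtain ⟨⟨a, rfl⟩, ha⟩ := m1
    obtain ⟨⟨b, rfl⟩, hb⟩ := m2
    obtain ⟨⟨c, rfl⟩, hc3⟩ := m3
    have hdisj : ∀ u v, orb A u ≠ orb A v → Disjoint (orb A u) (orb A v) := by
      intro u v huv
      rw [Finset.disjoint_left]
      exact fun x hu hv => huv ((orb_eq_of_mem hu).symm.trans (orb_eq_of_mem hv))
    have hcard : (orb A a ∪ orb A b ∪ orb A c).card = 12 := by
      rw [Finset.card_union_of_disjoint (Finset.disjoint_union_left.2 ⟨hdisj _ _ n13, hdisj _ _ n23⟩),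
        Finset.card_union_of_disjoint (hdisj _ _ n12), ha, hb, hc3]
    have hle := card_le_mul_bd A hA (orb A a ∪ orb A b ∪ orb A c) (fun σ hσ x => by
      simp only [Finset.mem_union, orb_invariant hσ]) (c := 64) (by
      have h64 : Nat.card (orb A a × orb A b × orb A c) = 64 := by
        rw [Nat.card_eq_fintype_card, Fintype.card_prod, Fintype.card_prod, Fintype.card_coe,
          Fintype.card_coe, Fintype.card_coe, ha, hb, hc3]
      rw [← h64]
      refine Nat.card_le_card_of_injective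
        (fun σ => ((⟨((σ.1 : A) : Perm (Fin n)) a, mem_orb.2 ⟨_, σ.1.2, rfl⟩⟩,
          ⟨((σ.1 : A) : Perm (Fin n)) b, mem_orb.2 ⟨_, σ.1.2, rfl⟩⟩,
          ⟨((σ.1 : A) : Perm (Fin n)) c, mem_orb.2 ⟨_, σ.1.2, rfl⟩⟩) :
          orb A a × orb A b × orb A c)) fun σ τ h => ?_
      refine Subtype.ext (Subtype.ext (Equiv.ext fun x => ?_))
      by_cases hx : x ∈ orb A a ∪ orb A b ∪ orb A c
      · simp only [Prod.mk.injEq, Subtype.mk.injEq] at h
        simp only [Finset.mem_union] at hx
        rcases hx with (hx | hx) | hx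
        · exact determined hA _ _ h.1 hx
        · exact determined hA _ _ h.2.1 hx
        · exact determined hA _ _ h.2.2 hx
      · rw [σ.2 x hx, τ.2 x hx])
    have h12 : 12 ≤ n := by
      rw [← hcard]; simpa using Finset.card_le_univ (orb A a ∪ orb A b ∪ orb A c)
    rw [hcard, Fintype.card_fin] at hle
    have := triple_case (n - 12)
    rw [Nat.sub_add_cancel h12] at this
    omega

/-- A permutation carrying the orbits of `A` to those of `B`. -/
theorem exists_orbit_map {A B : Subgroup (Perm α)} (hA : Shape A) (hB : Shape B) :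
    ∃ e : Perm α, ∀ x y, y ∈ orb A x ↔ e y ∈ orb B (e x) := by
  set I := Finset.univ.image (orb A)
  set J := Finset.univ.image (orb B)
  obtain ⟨a4, an⟩ := hA.counts
  obtain ⟨b4, bn⟩ := hB.counts
  have mem3 : ∀ {X : Subgroup (Perm α)}, Shape X → ∀ o ∈ Finset.univ.image (orb X),
      ¬ o.card = 4 → o.card = 3 := fun hX o ho h4 => by
    obtain ⟨a, -, rfl⟩ := Finset.mem_image.1 ho
    exact (hX.size a).resolve_right h4
  let g4 := Finset.equivOfCardEq (a4.trans b4.symm)
  let g3 := Finset.equivOfCardEq (s := I.filter fun o => ¬ o.card = 4)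
    (t := J.filter fun o => ¬ o.card = 4) (by
      simp only [show I = Finset.univ.image (orb A) from rfl,
        show J = Finset.univ.image (orb B) from rfl]
      omega)
  let g : I → J := fun o =>
    if h : o.1.card = 4 then
      ⟨(g4 ⟨o.1, Finset.mem_filter.2 ⟨o.2, h⟩⟩).1, (Finset.mem_filter.1 (g4 _).2).1⟩
    else ⟨(g3 ⟨o.1, Finset.mem_filter.2 ⟨o.2, h⟩⟩).1, (Finset.mem_filter.1 (g3 _).2).1⟩
  have hgcard : ∀ o, (g o).1.card = o.1.card := by
    intro o
    by_cases h : o.1.card = 4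
    · simp only [g, dif_pos h]
      exact (Finset.mem_filter.1 (g4 _).2).2.trans h.symm
    · simp only [g, dif_neg h]
      exact (mem3 hB _ (Finset.mem_filter.1 (g3 _).2).1 (Finset.mem_filter.1 (g3 _).2).2).trans
        (mem3 hA _ o.2 h).symm
  have hginj : Function.Injective g := by
    intro o o' h
    have hc : o.1.card = o'.1.card := by rw [← hgcard, ← hgcard, h]
    by_cases h4 : o.1.card = 4
    · simp only [g, dif_pos h4, dif_pos (hc ▸ h4 : o'.1.card = 4), Subtype.mk.injEq] at h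
      exact Subtype.ext (congrArg Subtype.val (g4.injective (Subtype.ext h)) :)
    · simp only [g, dif_neg h4, dif_neg (hc ▸ h4 : ¬ o'.1.card = 4), Subtype.mk.injEq] at h
      exact Subtype.ext (congrArg Subtype.val (g3.injective (Subtype.ext h)) :)
  have hgsurj : Function.Surjective g := by
    intro p
    by_cases h4 : p.1.card = 4
    · obtain ⟨o, ho⟩ := g4.surjective ⟨p.1, Finset.mem_filter.2 ⟨p.2, h4⟩⟩
      refine ⟨⟨o.1, (Finset.mem_filter.1 o.2).1⟩, Subtype.ext ?_⟩
      simp only [g, dif_pos (Finset.mem_filter.1 o.2).2]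
      exact (congrArg Subtype.val ho :)
    · obtain ⟨o, ho⟩ := g3.surjective ⟨p.1, Finset.mem_filter.2 ⟨p.2, h4⟩⟩
      refine ⟨⟨o.1, (Finset.mem_filter.1 o.2).1⟩, Subtype.ext ?_⟩
      simp only [g, dif_neg (Finset.mem_filter.1 o.2).2]
      exact (congrArg Subtype.val ho :)
  let fA : α → J := fun x => g ⟨orb A x, Finset.mem_image_of_mem _ (Finset.mem_univ x)⟩
  let fB : α → J := fun x => ⟨orb B x, Finset.mem_image_of_mem _ (Finset.mem_univ x)⟩
  have hfib : ∀ p : J, Nonempty ({x // fA x = p} ≃ {x // fB x = p}) := by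
    intro p
    obtain ⟨o, rfl⟩ := hgsurj p
    refine ⟨Fintype.equivOfCardEq ?_⟩
    rw [Fintype.card_subtype, Fintype.card_subtype]
    have e1 : (Finset.univ.filter fun x => fA x = g o) = o.1 := by
      rw [← fiber_eq A o.2]
      refine Finset.filter_congr fun x _ => ?_
      exact ⟨fun h => congrArg Subtype.val (hginj h), fun h => congrArg g (Subtype.ext h)⟩
    have e2 : (Finset.univ.filter fun x => fB x = g o) = (g o).1 := by
      rw [← fiber_eq B (g o).2]
      refine Finset.filter_congr fun x _ => ?_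
      exact ⟨fun h => congrArg Subtype.val h, fun h => Subtype.ext h⟩
    rw [e1, e2, hgcard]
  let e : Perm α := Equiv.ofFiberEquiv (f := fA) (g := fB) fun p => (hfib p).some
  have he : ∀ x, fB (e x) = fA x := fun x => Equiv.ofFiberEquiv_map _ x
  refine ⟨e, fun x y => ?_⟩
  constructor
  · intro h
    have : fB (e y) = fB (e x) := by
      rw [he, he]; exact congrArg g (Subtype.ext (orb_eq_of_mem h))
    have h5 : orb B (e y) = orb B (e x) := congrArg Subtype.val this
    rw [← h5]; exact mem_orb_self B _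
  · intro h
    have : fA y = fA x := by
      rw [← he, ← he]; exact Subtype.ext (orb_eq_of_mem h)
    have h5 : orb A y = orb A x := congrArg Subtype.val (hginj this)
    rw [← h5]; exact mem_orb_self A _

/-- Abelian groups of even permutations of maximal order are conjugate by an even permutation. -/
theorem exists_even_conj (hn : n = 4 ∨ 6 ≤ n) {A B : Subgroup (Perm (Fin n))}
    (hA : IsMulCommutative A) (hB : IsMulCommutative B) (hAe : ∀ σ ∈ A, Perm.sign σ = 1)
    (hBe : ∀ σ ∈ B, Perm.sign σ = 1)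
    (hAmax : ∀ C : Subgroup (Perm (Fin n)), IsMulCommutative C → (∀ σ ∈ C, Perm.sign σ = 1) →
      Nat.card C ≤ Nat.card A)
    (hBmax : ∀ C : Subgroup (Perm (Fin n)), IsMulCommutative C → (∀ σ ∈ C, Perm.sign σ = 1) →
      Nat.card C ≤ Nat.card B) :
    ∃ g : Perm (Fin n), Perm.sign g = 1 ∧ ∀ σ, σ ∈ B ↔ g⁻¹ * σ * g ∈ A := by
  classical
  obtain ⟨X, hX, hXe, hXc⟩ := exists_card_Mx n hn
  have sA := shape_of_max hn hA hAe (hXc ▸ hAmax X hX hXe)
  have sB := shape_of_max hn hB hBe (hXc ▸ hBmax X hX hXe)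
  obtain ⟨e0, he0⟩ := exists_orbit_map sA sB
  -- make it even
  obtain ⟨e, hes, he⟩ : ∃ e : Perm (Fin n), Perm.sign e = 1 ∧
      ∀ x y, y ∈ orb A x ↔ e y ∈ orb B (e x) := by
    rcases Int.units_eq_one_or (Perm.sign e0) with h | h
    · exact ⟨e0, h, he0⟩
    · haveI : Nonempty (Fin n) := ⟨⟨0, by omega⟩⟩
      let u : Fin n := Classical.arbitrary _
      obtain ⟨v, hv, hvu⟩ := Finset.exists_mem_ne
        (by rcases sB.size u with h' | h' <;> omega : 1 < (orb B u).card) u
      have hsw : ∀ z, swap u v z ∈ orb B z := by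
        intro z
        by_cases hzu : z = u
        · rw [hzu, swap_apply_left]; exact hv
        by_cases hzv : z = v
        · rw [hzv, swap_apply_right, orb_eq_of_mem hv]; exact mem_orb_self B u
        · rw [swap_apply_of_ne_of_ne hzu hzv]; exact mem_orb_self B z
      refine ⟨swap u v * e0, by rw [map_mul, Perm.sign_swap hvu.symm, h]; rfl, fun x y => ?_⟩
      rw [he0, Perm.mul_apply, Perm.mul_apply]
      have e1 := orb_eq_of_mem (hsw (e0 x))
      have e2 := orb_eq_of_mem (hsw (e0 y))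
      rw [e1]
      constructor
      · intro h'; rw [← orb_eq_of_mem h']; exact hsw _
      · intro h'; rw [← orb_eq_of_mem h', e2]; exact mem_orb_self B _
  set A' := A.map (MulAut.conj e).toMonoidHom with hA'
  have hA'c : IsMulCommutative A' := ⟨⟨fun x y => by
    obtain ⟨_, u, hu, rfl⟩ := x
    obtain ⟨_, w, hw, rfl⟩ := y
    refine Subtype.ext ?_
    show (MulAut.conj e) u * (MulAut.conj e) w = (MulAut.conj e) w * (MulAut.conj e) u
    rw [← map_mul, ← map_mul, show u * w = w * u from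
      congrArg Subtype.val (mul_comm' (⟨u, hu⟩ : A) ⟨w, hw⟩)]⟩⟩
  have hcomm : ∀ s ∈ A', ∀ t ∈ B, s * t = t * s := by
    rintro _ ⟨σ, hσ, rfl⟩ t ht
    refine Equiv.ext fun z => ?_
    obtain ⟨x, rfl⟩ := e.surjective z
    have hs : ∀ w, (MulAut.conj e).toMonoidHom σ (e w) = e (σ w) := fun w => by
      simp [MulAut.conj_apply]
    have hmemO : ∀ w, e w ∈ orb B (e x) ↔ w ∈ orb A x := fun w => (he x w).symm
    have hO : ∀ w, (MulAut.conj e).toMonoidHom σ w ∈ orb B (e x) ↔ w ∈ orb B (e x) := by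
      intro w
      obtain ⟨w, rfl⟩ := e.surjective w
      rw [hs, hmemO, hmemO, orb_invariant hσ]
    have hcard : (orb B (e x)).card = (orb A x).card := by
      rw [← Finset.card_map e.toEmbedding (s := orb A x)]
      congr 1
      ext w
      obtain ⟨w, rfl⟩ := e.surjective w
      simp [hmemO]
    refine local_commute hO (fun w => orb_invariant ht w) ?_ ?_ ?_ (mem_orb_self B (e x))
    · intro w hw hfix y hy
      obtain ⟨w, rfl⟩ := e.surjective w
      obtain ⟨y, rfl⟩ := e.surjective y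
      rw [hs] at hfix ⊢
      refine congrArg e (determined hA ⟨σ, hσ⟩ 1 (e.injective hfix) ?_)
      rw [orb_eq_of_mem ((hmemO w).1 hw)]
      exact (hmemO y).1 hy
    · intro w hw hfix y hy
      exact determined hB ⟨t, ht⟩ 1 hfix (by rw [orb_eq_of_mem hw]; exact hy)
    · rcases sB.size (e x) with h3 | h4
      · exact Or.inl h3
      · refine Or.inr ⟨h4, fun w hw => ?_, fun w hw => sB.invol t ht w (by
          rw [orb_eq_of_mem hw]; exact h4)⟩
        obtain ⟨w, rfl⟩ := e.surjective w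
        rw [hs, hs, sA.invol σ hσ w (by rw [orb_eq_of_mem ((hmemO w).1 hw), ← hcard]; exact h4)]
  have hAC : A' ≤ Subgroup.centralizer (A' : Set (Perm (Fin n))) := fun x hx y hy =>
    congrArg Subtype.val (mul_comm' (⟨y, hy⟩ : A') ⟨x, hx⟩)
  have hBC : B ≤ Subgroup.centralizer (B : Set (Perm (Fin n))) := fun x hx y hy =>
    congrArg Subtype.val (mul_comm' (⟨y, hy⟩ : B) ⟨x, hx⟩)
  have hABC : A' ⊔ B ≤ Subgroup.centralizer ((A' ⊔ B : Subgroup _) : Set (Perm (Fin n))) := by
    refine sup_le (Subgroup.le_centralizer_iff.1 (sup_le hAC fun x hx y hy => (hcomm y hy x hx)))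
      (Subgroup.le_centralizer_iff.1 (sup_le (fun x hx y hy => (hcomm x hx y hy).symm) hBC))
  haveI : IsMulCommutative (A' ⊔ B : Subgroup (Perm (Fin n))) :=
    ⟨⟨fun x y => Subtype.ext (hABC y.2 x x.2)⟩⟩
  have hsup : ∀ σ ∈ A' ⊔ B, Perm.sign σ = 1 := by
    have : A' ⊔ B ≤ (Perm.sign (α := Fin n)).ker := by
      refine sup_le ?_ (fun σ hσ => hBe σ hσ)
      rintro _ ⟨σ, hσ, rfl⟩
      show Perm.sign ((MulAut.conj e) σ) = 1
      rw [MulAut.conj_apply, map_mul, map_mul, map_inv, hes, hAe σ hσ]; simp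
    exact fun σ hσ => this hσ
  have hcardA' : Nat.card A' = Nat.card A :=
    (Nat.card_congr (Subgroup.equivMapOfInjective A _ (MulAut.conj e).injective).toEquiv).symm
  have e1 : A' = A' ⊔ B := Subgroup.eq_of_le_of_card_ge le_sup_left
    (hcardA' ▸ hAmax _ inferInstance hsup)
  have e2 : B = A' ⊔ B := Subgroup.eq_of_le_of_card_ge le_sup_right (hBmax _ inferInstance hsup)
  refine ⟨e, hes, fun σ => ?_⟩
  rw [show B = A' from e2.trans e1.symm, hA', Subgroup.mem_map_equiv, MulAut.conj_symm_apply]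

end Cfsg.Agent.Lib.MaxAbelianAlt
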